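import Groth.Agent.GrpSchLib.LineGroups
import Mathlib.RingTheory.GradedAlgebra.HomogeneousLocalization
import Mathlib.RingTheory.MvPolynomial.Homogeneous
import Mathlib.RingTheory.TensorProduct.Basic
import Mathlib.SetTheory.Cardinal.Finite

/-!
# Finite automorphism groups of the complement of a quadratic point on the projective line
-/

universe u

open scoped Polynomial LaurentPolynomial TensorProduct
open LaurentPolynomial (T)

attribute [local instance] MvPolynomial.gradedAlgebra

noncomputable section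

namespace Groth.Agent.ConicAut

variable {K : Type u} [Field K]

/-- The affine complement of the zero locus of a form. -/
abbrev Rq (q : MvPolynomial (Fin 2) K) : Type u :=
  HomogeneousLocalization.Away (MvPolynomial.homogeneousSubmodule (Fin 2) K) q

/-- A splitting of the form over a quadratic extension. -/
structure Data (q : MvPolynomial (Fin 2) K) (L : Type u) [Field L] [Algebra K L] where
  a : K
  α : L
  β : L
  σ : L ≃ₐ[K] L
  σα : σ α = β
  σβ : σ β = α
  ne : α ≠ β
  a0 : a ≠ 0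
  span : ∀ z : L, ∃ r s : K, z = algebraMap K L r + algebraMap K L s * α
  hq : q.IsHomogeneous 2
  split : MvPolynomial.map (algebraMap K L) q = MvPolynomial.C (algebraMap K L a) *
    ((MvPolynomial.X 0 - MvPolynomial.C α * MvPolynomial.X 1) * (MvPolynomial.X 0 - MvPolynomial.C β * MvPolynomial.X 1))

variable {q : MvPolynomial (Fin 2) K} {L : Type u} [Field L] [Algebra K L] (D : Data q L)

local notation "C" => LaurentPolynomial.C

/-- The image of the first variable. -/
def Data.u₀ : L[T;T⁻¹] := C (D.β / (D.β - D.α)) * T 1 - C (D.α / (D.β - D.α))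

/-- The image of the second variable. -/
def Data.v₀ : L[T;T⁻¹] := C (1 / (D.β - D.α)) * (T 1 - 1)

theorem Data.sub_ne : D.β - D.α ≠ 0 := sub_ne_zero.mpr (Ne.symm D.ne)

theorem Data.u_sub_α : D.u₀ - C D.α * D.v₀ = T 1 := by
  rw [Data.u₀, Data.v₀, ← mul_assoc, ← map_mul, mul_sub, mul_one, mul_one_div]
  rw [show C (D.β / (D.β - D.α)) * T 1 - C (D.α / (D.β - D.α)) - (C (D.α / (D.β - D.α)) * T 1 - C (D.α / (D.β - D.α)))
      = (C (D.β / (D.β - D.α)) - C (D.α / (D.β - D.α))) * T 1 by ring]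
  rw [← map_sub, ← sub_div, div_self D.sub_ne, map_one, one_mul]

theorem Data.u_sub_β : D.u₀ - C D.β * D.v₀ = 1 := by
  rw [Data.u₀, Data.v₀, ← mul_assoc, ← map_mul, mul_sub, mul_one, mul_one_div]
  rw [show C (D.β / (D.β - D.α)) * T 1 - C (D.α / (D.β - D.α)) - (C (D.β / (D.β - D.α)) * T 1 - C (D.β / (D.β - D.α)))
      = C (D.β / (D.β - D.α)) - C (D.α / (D.β - D.α)) by ring]
  rw [← map_sub, ← sub_div, div_self D.sub_ne, map_one]

/-- Dehomogenisation. -/
def Data.ev : MvPolynomial (Fin 2) K →ₐ[K] L[T;T⁻¹] := MvPolynomial.aeval ![D.u₀, D.v₀]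

theorem Data.ev_map (f : MvPolynomial (Fin 2) K) :
    D.ev f = MvPolynomial.eval₂ (LaurentPolynomial.C : L →+* L[T;T⁻¹]) ![D.u₀, D.v₀] (MvPolynomial.map (algebraMap K L) f) := by
  rw [MvPolynomial.eval₂_map, Data.ev, MvPolynomial.aeval_def]
  rfl

theorem Data.ev_q : D.ev q = C (algebraMap K L D.a) * T 1 := by
  rw [D.ev_map, D.split]
  simp [D.u_sub_α, D.u_sub_β]

theorem Data.isUnit_ev_q : IsUnit (D.ev q) := by
  rw [D.ev_q]
  exact (((Ne.isUnit D.a0).map (algebraMap K L)).map LaurentPolynomial.C).mul (LaurentPolynomial.isUnit_T 1)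

/-- The coordinates on the affine curve over the extension. -/
def Data.Φ : Rq q →+* L[T;T⁻¹] :=
  (IsLocalization.Away.lift (S := Localization.Away q) (g := D.ev.toRingHom) q D.isUnit_ev_q).comp
    (algebraMap (Rq q) (Localization.Away q))

theorem Data.Φ_mk (n : ℕ) (f : MvPolynomial (Fin 2) K)
    (hf : f ∈ MvPolynomial.homogeneousSubmodule (Fin 2) K (n • 2)) :
    D.Φ (HomogeneousLocalization.Away.mk _ D.hq n f hf) * D.ev q ^ n = D.ev f := by
  rw [Data.Φ, RingHom.comp_apply, HomogeneousLocalization.algebraMap_apply, HomogeneousLocalization.Away.val_mk,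
    Localization.mk_eq_mk', ← map_pow]
  have h := IsLocalization.mk'_spec (Localization.Away q) f (⟨q ^ n, n, rfl⟩ : Submonoid.powers q)
  have h2 := congrArg (IsLocalization.Away.lift (S := Localization.Away q) (g := D.ev.toRingHom) q D.isUnit_ev_q) h
  rw [map_mul, IsLocalization.Away.lift_eq, IsLocalization.Away.lift_eq] at h2
  exact h2

theorem exists_mk (hq : q.IsHomogeneous 2) (z : Rq q) :
    ∃ (n : ℕ) (f : MvPolynomial (Fin 2) K) (hf : f ∈ MvPolynomial.homogeneousSubmodule (Fin 2) K (n • 2)),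
      HomogeneousLocalization.Away.mk _ hq n f hf = z :=
  HomogeneousLocalization.Away.mk_surjective _ hq z

theorem Data.Φ_smul (c : K) (z : Rq q) : D.Φ (c • z) = c • D.Φ z := by
  obtain ⟨n, f, hf, rfl⟩ := exists_mk D.hq z
  have h : c • HomogeneousLocalization.Away.mk _ D.hq n f hf =
      HomogeneousLocalization.Away.mk _ D.hq n (c • f) (Submodule.smul_mem _ c hf) := by
    apply HomogeneousLocalization.val_injective
    rw [HomogeneousLocalization.val_smul, HomogeneousLocalization.Away.val_mk, HomogeneousLocalization.Away.val_mk,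
      Localization.smul_mk]
  refine (D.isUnit_ev_q.pow n).mul_right_cancel ?_
  rw [h, D.Φ_mk, smul_mul_assoc, D.Φ_mk, map_smul]

/-- The conjugation. -/
def Data.τ : L[T;T⁻¹] →+* L[T;T⁻¹] :=
  (AddMonoidAlgebra.mapRingHom ℤ (D.σ : L →+* L)).comp (LaurentPolynomial.invert (R := L)).toRingHom

theorem Data.τ_C (l : L) : D.τ (C l) = C (D.σ l) := by
  show AddMonoidAlgebra.mapRingHom ℤ (D.σ : L →+* L) (LaurentPolynomial.invert (C l)) = _
  rw [LaurentPolynomial.invert_C]
  exact AddMonoidAlgebra.map_single ..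

theorem Data.τ_T (n : ℤ) : D.τ (T n) = T (-n) := by
  show AddMonoidAlgebra.mapRingHom ℤ (D.σ : L →+* L) (LaurentPolynomial.invert (T n)) = _
  rw [LaurentPolynomial.invert_T]
  refine (AddMonoidAlgebra.map_single ..).trans ?_
  exact congrArg (AddMonoidAlgebra.single (-n)) (map_one (D.σ : L →+* L))

theorem Data.σ_div (x : L) : D.σ (x / (D.β - D.α)) = -(D.σ x / (D.β - D.α)) := by
  rw [map_div₀, map_sub, D.σα, D.σβ, ← div_neg, neg_sub]

theorem Data.τ_u : D.τ D.u₀ = T (-1) * D.u₀ := by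
  have hT : T (-1) * T 1 = (1 : L[T;T⁻¹]) := by rw [← LaurentPolynomial.T_add]; rfl
  simp only [Data.u₀, map_sub, map_mul, map_neg, D.τ_C, D.τ_T, D.σ_div, D.σα, D.σβ]
  linear_combination -C (D.β / (D.β - D.α)) * hT

theorem Data.τ_v : D.τ D.v₀ = T (-1) * D.v₀ := by
  have hT : T (-1) * T 1 = (1 : L[T;T⁻¹]) := by rw [← LaurentPolynomial.T_add]; rfl
  simp only [Data.v₀, map_mul, map_sub, map_one, map_neg, D.τ_C, D.τ_T, D.σ_div]
  linear_combination -C (1 / (D.β - D.α)) * hT

theorem two_degree {f : MvPolynomial (Fin 2) K} {N : ℕ} (hf : f.IsHomogeneous N) {d : Fin 2 →₀ ℕ}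
    (hd : d ∈ f.support) : d 0 + d 1 = N := by
  have := hf (MvPolynomial.mem_support_iff.mp hd)
  simpa [Finsupp.weight_apply, Finsupp.sum_fintype, Fin.sum_univ_two] using this

theorem Data.ev_eq_sum (f : MvPolynomial (Fin 2) K) :
    D.ev f = ∑ d ∈ f.support, C (algebraMap K L (f.coeff d)) * (D.u₀ ^ d 0 * D.v₀ ^ d 1) := by
  rw [Data.ev, MvPolynomial.aeval_def, MvPolynomial.eval₂_eq']
  refine Finset.sum_congr rfl fun d _ => ?_
  rw [Fin.prod_univ_two]
  rfl

theorem Data.τ_ev {f : MvPolynomial (Fin 2) K} {N : ℕ} (hf : f.IsHomogeneous N) :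
    D.τ (D.ev f) = T (-1) ^ N * D.ev f := by
  rw [D.ev_eq_sum, map_sum, Finset.mul_sum]
  refine Finset.sum_congr rfl fun d hd => ?_
  rw [map_mul, map_mul, map_pow, map_pow, D.τ_u, D.τ_v, D.τ_C, AlgEquiv.commutes, ← two_degree hf hd, pow_add,
    mul_pow, mul_pow]
  ring

theorem Data.τ_Φ (z : Rq q) : D.τ (D.Φ z) = D.Φ z := by
  obtain ⟨n, f, hf, rfl⟩ := exists_mk D.hq z
  have h := congrArg D.τ (D.Φ_mk n f hf)
  rw [map_mul, map_pow, D.τ_ev D.hq, D.τ_ev hf, smul_eq_mul, ← D.Φ_mk n f hf, mul_pow, mul_comm n 2, pow_mul] at h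
  refine ((((LaurentPolynomial.isUnit_T (R := L) (-1)).pow 2).pow n).mul (D.isUnit_ev_q.pow n)).mul_right_cancel ?_
  rw [h]
  ring

theorem indep_pow (u v : L[X]) (r : L) (hu : u.eval r ≠ 0) (hv : v.eval r = 0) (hv0 : v ≠ 0) :
    ∀ (N : ℕ) (c : ℕ → L), ∑ i ∈ Finset.range (N + 1), Polynomial.C (c i) * u ^ i * v ^ (N - i) = 0 →
      ∀ i ≤ N, c i = 0 := by
  intro N
  induction N with
  | zero =>
    intro c h i hi
    obtain rfl := Nat.le_zero.mp hi
    simpa using h
  | succ N ih =>
    intro c h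
    rw [Finset.sum_range_succ] at h
    have h1 := congrArg (Polynomial.eval r) h
    rw [Polynomial.eval_add, Polynomial.eval_finsetSum, Finset.sum_eq_zero (fun i hi => by
      rw [Polynomial.eval_mul, Polynomial.eval_pow, hv, zero_pow (by have := Finset.mem_range.mp hi; omega), mul_zero]),
      zero_add, Nat.sub_self, pow_zero, mul_one, Polynomial.eval_mul, Polynomial.eval_C, Polynomial.eval_pow,
      Polynomial.eval_zero] at h1
    have hN : c (N + 1) = 0 := (mul_eq_zero.mp h1).resolve_right (pow_ne_zero _ hu)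
    rw [hN, map_zero, zero_mul, zero_mul, add_zero] at h
    have h2 : (∑ i ∈ Finset.range (N + 1), Polynomial.C (c i) * u ^ i * v ^ (N - i)) * v = 0 := by
      rw [Finset.sum_mul, ← h]
      refine Finset.sum_congr rfl fun i hi => ?_
      rw [mul_assoc, ← pow_succ, show N - i + 1 = N + 1 - i by have := Finset.mem_range.mp hi; omega]
    intro i hi
    rcases Nat.eq_or_lt_of_le hi with rfl | hi
    · exact hN
    · exact ih c ((mul_eq_zero.mp h2).resolve_right hv0) i (by omega)

theorem Data.ev_eq_zero {f : MvPolynomial (Fin 2) K} {N : ℕ} (hf : f.IsHomogeneous N) (h : D.ev f = 0) : f = 0 := by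
  classical
  let u : L[X] := Polynomial.C (D.β / (D.β - D.α)) * Polynomial.X - Polynomial.C (D.α / (D.β - D.α))
  let v : L[X] := Polynomial.C (1 / (D.β - D.α)) * (Polynomial.X - 1)
  have hu : Polynomial.toLaurent u = D.u₀ := by simp [u, Data.u₀]
  have hv : Polynomial.toLaurent v = D.v₀ := by simp [v, Data.v₀]
  let dd : ℕ → (Fin 2 →₀ ℕ) := fun i => Finsupp.equivFunOnFinite.symm ![i, N - i]
  let c : ℕ → L := fun i => algebraMap K L (f.coeff (dd i))
  have hdd : ∀ d ∈ f.support, dd (d 0) = d := fun d hd => by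
    have := two_degree hf hd
    ext j
    fin_cases j <;> simp [dd] <;> omega
  have key : ∀ i ≤ N, c i = 0 := by
    refine indep_pow u v 1 ?_ (by simp [v]) ?_ N c (Polynomial.toLaurent_injective ?_)
    · simp only [u, Polynomial.eval_sub, Polynomial.eval_mul, Polynomial.eval_C, Polynomial.eval_X, mul_one]
      rw [← sub_div, div_self D.sub_ne]
      exact one_ne_zero
    · exact mul_ne_zero (Polynomial.C_ne_zero.mpr (one_div_ne_zero D.sub_ne)) (Polynomial.X_sub_C_ne_zero (1 : L) ∘ by simp)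
    · rw [map_sum, map_zero, ← h, D.ev_eq_sum]
      symm
      refine Finset.sum_bij_ne_zero (fun d _ _ => d 0) (fun d hd _ => ?_) (fun d hd _ d' hd' _ e => ?_)
        (fun i hi hne => ?_) (fun d hd _ => ?_)
      · have := two_degree hf hd
        simp only [Finset.mem_range]; omega
      · rw [← hdd d hd, ← hdd d' hd', e]
      · have hc : f.coeff (dd i) ≠ 0 := fun e => hne (by simp [c, e])
        refine ⟨dd i, MvPolynomial.mem_support_iff.mpr hc, ?_, by simp [dd]⟩
        convert hne using 1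
        have hi' : i < N + 1 := Finset.mem_range.mp hi
        simp [c, dd, hu, hv, mul_assoc]
      · have h2 := two_degree hf hd
        simp only [c, hdd d hd, map_mul, map_pow, Polynomial.toLaurent_C, hu, hv]
        rw [show N - d 0 = d 1 by omega, mul_assoc]
  refine MvPolynomial.support_eq_empty.mp (Finset.eq_empty_of_forall_notMem fun d hd => ?_)
  have h2 := two_degree hf hd
  have h1 := key (d 0) (by omega)
  simp only [c, hdd d hd, map_eq_zero] at h1
  exact MvPolynomial.mem_support_iff.mp hd h1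

theorem Data.Φ_injective : Function.Injective D.Φ := by
  rw [injective_iff_map_eq_zero]
  intro z hz
  obtain ⟨n, f, hf, rfl⟩ := exists_mk D.hq z
  have h := D.Φ_mk n f hf
  rw [hz, zero_mul] at h
  obtain rfl := D.ev_eq_zero hf h.symm
  apply HomogeneousLocalization.val_injective
  rw [HomogeneousLocalization.Away.val_mk, Localization.mk_zero, HomogeneousLocalization.val_zero]

/-- The algebra structure of the curve over the ground field. -/
abbrev Data.alg (D : Data q L) : Algebra K (Rq q) :=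
  have h1 : D.Φ 1 = 1 := map_one _
  { smul := (· • ·)
    algebraMap :=
      { toFun := fun c => c • (1 : Rq q)
        map_one' := D.Φ_injective (by rw [D.Φ_smul, one_smul])
        map_mul' := fun a b => D.Φ_injective (by
          rw [map_mul, D.Φ_smul, D.Φ_smul, D.Φ_smul, h1, smul_mul_smul_comm, one_mul])
        map_zero' := D.Φ_injective (by rw [D.Φ_smul, zero_smul, map_zero])
        map_add' := fun a b => D.Φ_injective (by rw [map_add, D.Φ_smul, D.Φ_smul, D.Φ_smul, add_smul]) }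
    commutes' := fun c x => mul_comm _ _
    smul_def' := fun c x => D.Φ_injective (by
      show D.Φ (c • x) = D.Φ ((c • (1 : Rq q)) * x)
      rw [map_mul, D.Φ_smul, D.Φ_smul, h1, smul_mul_assoc, one_mul]) }

/-- The coordinates as an algebra map. -/
def Data.Φₐ : letI := D.alg; Rq q →ₐ[K] L[T;T⁻¹] :=
  letI := D.alg
  { D.Φ with
    commutes' := fun c => by
      show D.Φ (c • (1 : Rq q)) = _
      rw [D.Φ_smul, map_one, Algebra.smul_def, mul_one] }

/-- The comparison over the extension. -/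
def Data.Ψ : letI := D.alg; L ⊗[K] Rq q →ₐ[L] L[T;T⁻¹] :=
  letI := D.alg
  Algebra.TensorProduct.lift (Algebra.ofId L _) D.Φₐ fun _ _ => .all _ _

theorem Data.Ψ_tmul (l : L) (r : Rq q) : letI := D.alg; D.Ψ (l ⊗ₜ[K] r) = C l * D.Φ r := by
  letI := D.alg
  rw [Data.Ψ, Algebra.TensorProduct.lift_tmul]
  rfl

theorem Data.exists_pair : letI := D.alg; ∀ z : L ⊗[K] Rq q, ∃ r s, z = (1 : L) ⊗ₜ[K] r + D.α ⊗ₜ[K] s := by
  letI := D.alg
  intro z
  induction z using TensorProduct.induction_on with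
  | zero => exact ⟨0, 0, by simp⟩
  | add x y hx hy =>
    obtain ⟨a, b, rfl⟩ := hx
    obtain ⟨c, d, rfl⟩ := hy
    exact ⟨a + c, b + d, by rw [TensorProduct.tmul_add, TensorProduct.tmul_add]; abel⟩
  | tmul l x =>
    obtain ⟨r, s, rfl⟩ := D.span l
    refine ⟨r • x, s • x, ?_⟩
    rw [TensorProduct.add_tmul, ← Algebra.smul_def, Algebra.algebraMap_eq_smul_one, TensorProduct.smul_tmul,
      TensorProduct.smul_tmul]
    rfl

theorem Data.Ψ_injective : letI := D.alg; Function.Injective D.Ψ := by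
  letI := D.alg
  rw [injective_iff_map_eq_zero]
  intro z hz
  obtain ⟨r, s, rfl⟩ := D.exists_pair z
  rw [map_add, D.Ψ_tmul, D.Ψ_tmul, map_one, one_mul] at hz
  have h2 := congrArg D.τ hz
  rw [map_add, map_mul, map_zero, D.τ_C, D.τ_Φ, D.τ_Φ, D.σα] at h2
  have h3 : C (D.β - D.α) * D.Φ s = 0 := by rw [map_sub, sub_mul]; linear_combination h2 - hz
  have hs : D.Φ s = 0 :=
    (((Ne.isUnit D.sub_ne).map LaurentPolynomial.C).mul_right_eq_zero).mp h3
  rw [hs, mul_zero, add_zero] at hz
  rw [D.Φ_injective (hz.trans (map_zero _).symm), D.Φ_injective (hs.trans (map_zero _).symm), TensorProduct.tmul_zero,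
    TensorProduct.tmul_zero, add_zero]

theorem Data.Φ_monomial (d : Fin 2 →₀ ℕ) (hd : d 0 + d 1 = 2) :
    ∃ z : Rq q, D.Φ z * (C (algebraMap K L D.a) * T 1) = D.u₀ ^ d 0 * D.v₀ ^ d 1 := by
  refine ⟨HomogeneousLocalization.Away.mk _ D.hq 1 (MvPolynomial.monomial d 1)
    (MvPolynomial.isHomogeneous_monomial _ ((Finset.sum_subset (Finset.subset_univ _) fun i _ hi => Finsupp.notMem_support_iff.mp hi).trans ((Fin.sum_univ_two _).trans hd))), ?_⟩
  rw [← D.ev_q, ← pow_one (D.ev q), D.Φ_mk, Data.ev, MvPolynomial.aeval_monomial, map_one, one_mul,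
    Finsupp.prod_fintype _ _ (fun i => by simp), Fin.prod_univ_two]
  rfl

theorem Data.Ψ_surjective : letI := D.alg; Function.Surjective D.Ψ := by
  letI := D.alg
  have hT : IsUnit (C (algebraMap K L D.a) * T 1) := D.ev_q ▸ D.isUnit_ev_q
  obtain ⟨z₀, hz₀⟩ := D.Φ_monomial (Finsupp.single 0 2) (by simp)
  obtain ⟨z₁, hz₁⟩ := D.Φ_monomial (Finsupp.single 0 1 + Finsupp.single 1 1) (by simp)
  obtain ⟨z₂, hz₂⟩ := D.Φ_monomial (Finsupp.single 1 2) (by simp)
  simp only [Finsupp.coe_add, Pi.add_apply, Finsupp.single_eq_same, ne_eq, Fin.reduceEq, not_false_eq_true,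
    Finsupp.single_eq_of_ne, pow_zero, mul_one, one_mul, add_zero, zero_add, pow_one] at hz₀ hz₁ hz₂
  have key : ∀ γ : L, ∀ w : L[T;T⁻¹], C (algebraMap K L D.a) * (D.u₀ - C γ * D.v₀) ^ 2 = w * (C (algebraMap K L D.a) * T 1) →
      w ∈ D.Ψ.range := by
    intro γ w hw
    refine ⟨(algebraMap K L D.a) ⊗ₜ z₀ + (algebraMap K L D.a * (-2 * γ)) ⊗ₜ z₁ + (algebraMap K L D.a * γ ^ 2) ⊗ₜ z₂,
      hT.mul_right_cancel ?_⟩
    show D.Ψ _ * _ = w * _
    rw [← hw, map_add, map_add, D.Ψ_tmul, D.Ψ_tmul, D.Ψ_tmul, add_mul, add_mul, mul_assoc, hz₀, mul_assoc, hz₁,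
      mul_assoc, hz₂]
    simp only [map_mul, map_neg, map_pow, map_ofNat]
    ring
  have h1 : T 1 ∈ D.Ψ.range := key D.α _ (by rw [D.u_sub_α]; ring)
  have h2 : T (-1) ∈ D.Ψ.range := key D.β _ (by
    rw [D.u_sub_β, mul_left_comm, ← LaurentPolynomial.T_add, show (-1 : ℤ) + 1 = 0 from rfl, LaurentPolynomial.T_zero,
      one_pow])
  intro w
  show w ∈ D.Ψ.range
  have hTn : ∀ n : ℤ, T n ∈ D.Ψ.range := by
    intro n
    induction n using Int.induction_on with
    | zero => rw [LaurentPolynomial.T_zero]; exact one_mem _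
    | succ n ih => rw [LaurentPolynomial.T_add]; exact mul_mem ih h1
    | pred n ih => rw [LaurentPolynomial.T_sub]; exact mul_mem ih h2
  induction w using LaurentPolynomial.induction_on' with
  | add a b ha hb => exact add_mem ha hb
  | C_mul_T n a =>
    exact mul_mem (by rw [show C a = algebraMap L L[T;T⁻¹] a from rfl]; exact Subalgebra.algebraMap_mem _ _) (hTn n)

/-- The extension of an automorphism to the Laurent polynomials. -/
theorem Data.exists_ext (g : Rq q ≃+* Rq q) (hg : ∀ (k : K) z, g (k • z) = k • g z) :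
    ∃ γ : L[T;T⁻¹] →ₐ[L] L[T;T⁻¹], (∀ r, γ (D.Φ r) = D.Φ (g r)) ∧ ∀ w, γ (D.τ w) = D.τ (γ w) := by
  letI := D.alg
  let gA : Rq q →ₐ[K] Rq q :=
    { g.toRingHom with
      commutes' := fun c => by
        show g (c • (1 : Rq q)) = c • (1 : Rq q)
        rw [hg, map_one] }
  let e := AlgEquiv.ofBijective D.Ψ ⟨D.Ψ_injective, D.Ψ_surjective⟩
  let γ : L[T;T⁻¹] →ₐ[L] L[T;T⁻¹] :=
    (D.Ψ.comp (Algebra.TensorProduct.map (AlgHom.id L L) gA)).comp e.symm.toAlgHom
  have hγ : ∀ z, γ (D.Ψ z) = D.Ψ (Algebra.TensorProduct.map (AlgHom.id L L) gA z) := fun z => by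
    show D.Ψ (Algebra.TensorProduct.map (AlgHom.id L L) gA (e.symm (e z))) = _
    rw [AlgEquiv.symm_apply_apply]
  refine ⟨γ, fun r => ?_, fun w => ?_⟩
  · have := hγ ((1 : L) ⊗ₜ r)
    rw [Algebra.TensorProduct.map_tmul, D.Ψ_tmul, D.Ψ_tmul, map_one, one_mul, AlgHom.id_apply, map_one,
      one_mul] at this
    exact this
  · obtain ⟨z, rfl⟩ := D.Ψ_surjective w
    induction z using TensorProduct.induction_on with
    | zero => simp
    | add x y hx hy => simp only [map_add, hx, hy]
    | tmul l x =>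
      have hτ : ∀ (l : L) y, D.τ (D.Ψ (l ⊗ₜ y)) = D.Ψ (D.σ l ⊗ₜ y) := fun l y => by
        rw [D.Ψ_tmul, D.Ψ_tmul, map_mul, D.τ_C, D.τ_Φ]
      rw [hτ, hγ, hγ, Algebra.TensorProduct.map_tmul, Algebra.TensorProduct.map_tmul, hτ]
      rfl

include D in
theorem Data.bound (G : Subgroup (Rq q ≃+* Rq q)) [Finite G]
    (hG : ∀ g ∈ G, ∀ (k : K) (z : Rq q), g (k • z) = k • g z)
    (hroots : ∀ (m : ℕ) (z : L), 0 < m → z ^ m = 1 → ∃ c, algebraMap K L c = z) :
    (∀ g ∈ G, g ^ 2 = 1) ∧ Nat.card G ≤ 4 := by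
  classical
  choose γ hγΦ hγτ using fun g : G => D.exists_ext g.1 (hG g.1 g.2)
  have hext : ∀ {φ ψ : L[T;T⁻¹] →ₐ[L] L[T;T⁻¹]}, φ (T 1) = ψ (T 1) → φ = ψ :=
    fun h => GrpSchLib.LineGroups.algHom_ext_T h
  have hΦext : ∀ {φ ψ : L[T;T⁻¹] →ₐ[L] L[T;T⁻¹]}, (∀ r, φ (D.Φ r) = ψ (D.Φ r)) → φ = ψ := fun {φ ψ} h => by
    letI := D.alg
    refine AlgHom.ext fun w => ?_
    obtain ⟨z, rfl⟩ := D.Ψ_surjective w
    induction z using TensorProduct.induction_on with
    | zero => simp
    | add x y hx hy => simp only [map_add, hx, hy]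
    | tmul l x =>
      rw [D.Ψ_tmul, map_mul, map_mul, h, show C l = algebraMap L L[T;T⁻¹] l from rfl, AlgHom.commutes, AlgHom.commutes]
  have h1 : γ 1 = AlgHom.id L _ := hΦext fun r => by rw [hγΦ]; rfl
  have hmul : ∀ a b, γ (a * b) = (γ a).comp (γ b) := fun a b => hΦext fun r => by
    rw [AlgHom.comp_apply, hγΦ, hγΦ, hγΦ]; rfl
  have hinj : ∀ {a b}, γ a (T 1) = γ b (T 1) → a = b := fun {a b} h => by
    refine Subtype.ext (RingEquiv.ext fun r => D.Φ_injective ?_)
    rw [← hγΦ, ← hγΦ, hext h]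
  -- the shape of the image of the coordinate
  have hshape : ∀ g, ∃ c : L, c ≠ 0 ∧ ((γ g (T 1) = C c * T 1 ∧ (c = 1 ∨ c = -1)) ∨ γ g (T 1) = C c * T (-1)) := by
    intro g
    obtain ⟨c, n, hc, hn⟩ := GrpSchLib.LineAlg.laurent_unit ((LaurentPolynomial.isUnit_T (R := L) 1).map (γ g))
    obtain ⟨c', n', hc', hn'⟩ := GrpSchLib.LineAlg.laurent_unit ((LaurentPolynomial.isUnit_T (R := L) 1).map (γ g⁻¹))
    have hγC : ∀ (g : G) (x : L), γ g (C x) = C x := fun g x => (γ g).commutes x
    have hγn : ∀ m : ℤ, γ g (T m) = (C c * T n : L[T;T⁻¹]) ^ m.natAbs ∨ γ g (T m) * (C c * T n : L[T;T⁻¹]) ^ m.natAbs = 1 := by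
      intro m
      rcases Int.natAbs_eq m with e | e
      · left
        rw [← hn, ← map_pow, LaurentPolynomial.T_pow, mul_one, ← e]
      · right
        rw [← hn, ← map_pow, ← map_mul, LaurentPolynomial.T_pow, mul_one, ← LaurentPolynomial.T_add,
          show m + (m.natAbs : ℤ) = 0 by omega, LaurentPolynomial.T_zero, map_one]
    have h11 : γ g (γ g⁻¹ (T 1)) = T 1 := by
      rw [← AlgHom.comp_apply, ← hmul, mul_inv_cancel, h1, AlgHom.id_apply]
    rw [hn', map_mul, hγC] at h11
    have hnn : n.natAbs * n'.natAbs = 1 := by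
      rcases hγn n' with e | e
      · rw [e, mul_pow, ← map_pow, LaurentPolynomial.T_pow, ← mul_assoc, ← map_mul, ← LaurentPolynomial.single_eq_C_mul_T,
          LaurentPolynomial.T, AddMonoidAlgebra.single_inj] at h11
        rcases h11 with ⟨h, -⟩ | ⟨-, h⟩
        · rw [← Int.natAbs_natCast n'.natAbs, ← Int.natAbs_mul, mul_comm, h]; rfl
        · exact absurd h one_ne_zero
      · have h12 := congrArg (· * (C c * T n) ^ n'.natAbs) h11
        simp only [mul_assoc, e, mul_one] at h12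
        rw [mul_pow, ← map_pow, LaurentPolynomial.T_pow, mul_left_comm, ← LaurentPolynomial.T_add,
          ← LaurentPolynomial.single_eq_C_mul_T, show (C c' : L[T;T⁻¹]) = AddMonoidAlgebra.single 0 c' from rfl,
          AddMonoidAlgebra.single_inj] at h12
        rcases h12 with ⟨h, -⟩ | ⟨h, -⟩
        · have : ((n'.natAbs : ℤ) * n).natAbs = 1 := by omega
          rwa [Int.natAbs_mul, Int.natAbs_natCast, mul_comm] at this
        · exact absurd h hc'.ne_zero
    have hn1 := Nat.eq_one_of_mul_eq_one_right hnn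
    refine ⟨c, hc.ne_zero, ?_⟩
    rcases Int.natAbs_eq n with e | e <;> rw [hn1] at e <;> subst e
    · left
      refine ⟨hn, ?_⟩
      obtain ⟨m, hm, hgm⟩ := (isOfFinOrder_of_finite g).exists_pow_eq_one
      have hp : ∀ j : ℕ, γ (g ^ j) (T 1) = C (c ^ j) * T 1 := by
        intro j
        induction j with
        | zero => simp [h1]
        | succ j ih =>
          rw [pow_succ', hmul, AlgHom.comp_apply, ih, map_mul, hγC, hn]
          rw [← mul_assoc, ← map_mul, ← pow_succ]
          rfl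
      have hcm : c ^ m = 1 := by
        have h := hp m
        rw [hgm, h1, AlgHom.id_apply, ← LaurentPolynomial.single_eq_C_mul_T, LaurentPolynomial.T,
          AddMonoidAlgebra.single_inj] at h
        rcases h with ⟨-, h⟩ | ⟨h, -⟩
        · exact h.symm
        · exact absurd h one_ne_zero
      obtain ⟨k, hk⟩ := hroots m c hm hcm
      have hτ := hγτ g (T 1)
      rw [D.τ_T, hn, map_mul, D.τ_C, D.τ_T, ← hk, AlgEquiv.commutes, hk] at hτ
      rcases hγn (-1) with e | e
      · rw [hτ, show ((-1 : ℤ).natAbs) = 1 from rfl, pow_one, ← LaurentPolynomial.single_eq_C_mul_T,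
          ← LaurentPolynomial.single_eq_C_mul_T, AddMonoidAlgebra.single_inj] at e
        rcases e with ⟨e, -⟩ | ⟨e, -⟩
        · exact absurd e (by decide)
        · exact absurd e hc.ne_zero
      · rw [hτ, show ((-1 : ℤ).natAbs) = 1 from rfl, pow_one, mul_mul_mul_comm, ← map_mul, ← LaurentPolynomial.T_add] at e
        rw [neg_add_cancel, LaurentPolynomial.T_zero, mul_one] at e
        exact mul_self_eq_one_iff.mp ((map_eq_one_iff C (LaurentPolynomial.C : L →+* L[T;T⁻¹]).injective).mp e)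
    · exact Or.inr hn
  have hsq : ∀ g : G, g * g = 1 := by
    intro g
    apply hinj
    rw [hmul, h1, AlgHom.comp_apply, AlgHom.id_apply]
    obtain ⟨c, hc, ⟨h, hc1⟩ | h⟩ := hshape g
    · rw [h, map_mul, show γ g (C c) = C c from (γ g).commutes c, h, ← mul_assoc, ← map_mul]
      rcases hc1 with rfl | rfl <;> simp
    · rw [h, map_mul, show γ g (C c) = C c from (γ g).commutes c]
      have hinvT : γ g (T (-1)) * (C c * T (-1)) = 1 := by
        rw [← h, ← map_mul, ← LaurentPolynomial.T_add]; simp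
      refine ((Ne.isUnit hc).map C |>.mul (LaurentPolynomial.isUnit_T (-1))).mul_right_cancel ?_
      rw [mul_assoc, hinvT, mul_one, mul_left_comm, ← LaurentPolynomial.T_add]
      simp
  refine ⟨fun g hg => by rw [pow_two]; exact congrArg Subtype.val (hsq ⟨g, hg⟩), ?_⟩
  by_cases hex : ∃ g : G, ∃ c : L, c ≠ 0 ∧ γ g (T 1) = C c * T (-1)
  · obtain ⟨g₀, c₀, hc₀, hg₀⟩ := hex
    let S : Finset (L[T;T⁻¹]) := {T 1, -T 1, γ g₀ (T 1), -γ g₀ (T 1)}
    have hmem : ∀ g, γ g (T 1) ∈ S := by
      intro g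
      obtain ⟨c, hc, ⟨h, rfl | rfl⟩ | h⟩ := hshape g
      · simp [S, h]
      · simp [S, h]
      · obtain ⟨c', -, ⟨h', hc'⟩ | h'⟩ := hshape (g * g₀)
        · rw [hmul, AlgHom.comp_apply, hg₀, map_mul, show γ g (C c₀) = C c₀ from (γ g).commutes c₀] at h'
          have hinvT : γ g (T (-1)) * (C c * T (-1)) = 1 := by
            rw [← h, ← map_mul, ← LaurentPolynomial.T_add]; simp
          have h3 := congrArg (· * (C c * T (-1))) h'
          simp only [mul_assoc, hinvT, mul_one] at h3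
          rw [mul_left_comm (T 1), ← LaurentPolynomial.T_add, show (1 : ℤ) + -1 = 0 from rfl, LaurentPolynomial.T_zero,
            mul_one, ← map_mul] at h3
          have h4 := (LaurentPolynomial.C : L →+* L[T;T⁻¹]).injective h3
          rcases hc' with rfl | rfl
          · simp [S, h, hg₀, show c = c₀ by rw [h4, one_mul]]
          · simp [S, h, hg₀, show c = -c₀ by rw [h4, neg_one_mul, neg_neg]]
        · exfalso
          rw [hmul, AlgHom.comp_apply, hg₀, map_mul, show γ g (C c₀) = C c₀ from (γ g).commutes c₀] at h'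
          have hinvT : γ g (T (-1)) * (C c * T (-1)) = 1 := by
            rw [← h, ← map_mul, ← LaurentPolynomial.T_add]; simp
          have h3 := congrArg (· * (C c * T (-1))) h'
          simp only [mul_assoc, hinvT, mul_one] at h3
          rw [mul_left_comm (T (-1)), ← LaurentPolynomial.T_add, ← mul_assoc, ← map_mul,
            ← LaurentPolynomial.single_eq_C_mul_T, show (C c₀ : L[T;T⁻¹]) = AddMonoidAlgebra.single 0 c₀ from rfl,
            AddMonoidAlgebra.single_inj] at h3
          rcases h3 with ⟨h3, -⟩ | ⟨h3, -⟩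
          · exact absurd h3 (by decide)
          · exact hc₀ h3
    refine (Nat.card_le_card_of_injective (fun g : G => (⟨γ g (T 1), hmem g⟩ : S))
      fun a b h => hinj (congrArg Subtype.val h)).trans ?_
    rw [Nat.card_eq_fintype_card, Fintype.card_coe]
    exact Finset.card_le_four
  · let S : Finset (L[T;T⁻¹]) := {T 1, -T 1}
    have hmem : ∀ g, γ g (T 1) ∈ S := by
      intro g
      obtain ⟨c, hc, ⟨h, rfl | rfl⟩ | h⟩ := hshape g
      · simp [S, h]
      · simp [S, h]
      · exact absurd ⟨g, c, hc, h⟩ hex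
    refine (Nat.card_le_card_of_injective (fun g : G => (⟨γ g (T 1), hmem g⟩ : S))
      fun a b h => hinj (congrArg Subtype.val h)).trans ?_
    rw [Nat.card_eq_fintype_card, Fintype.card_coe]
    exact Finset.card_le_two.trans (by norm_num)

end Groth.Agent.ConicAut
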