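import Groth.Agent.ConicAut.Basic
import Mathlib.RingTheory.AdjoinRoot
import Mathlib.Algebra.Polynomial.SpecificDegree
import Mathlib.Algebra.Polynomial.Splits

/-!
# The quadratic extension splitting an irreducible binary form
-/

universe u

open Polynomial

noncomputable section

namespace Groth.Agent.ConicAut

variable {K : Type u} [Field K] {q : MvPolynomial (Fin 2) K}

theorem form_eq (hq : q.IsHomogeneous 2) :
    q = MvPolynomial.C (q.coeff (Finsupp.single 0 2)) * MvPolynomial.X 0 ^ 2 +
      MvPolynomial.C (q.coeff (Finsupp.single 0 1 + Finsupp.single 1 1)) * (MvPolynomial.X 0 * MvPolynomial.X 1) +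
      MvPolynomial.C (q.coeff (Finsupp.single 1 2)) * MvPolynomial.X 1 ^ 2 := by
  classical
  ext d
  have e20 : MvPolynomial.X (R := K) (0 : Fin 2) ^ 2 = MvPolynomial.monomial (Finsupp.single 0 2) 1 :=
    MvPolynomial.X_pow_eq_monomial ..
  have e02 : MvPolynomial.X (R := K) (1 : Fin 2) ^ 2 = MvPolynomial.monomial (Finsupp.single 1 2) 1 :=
    MvPolynomial.X_pow_eq_monomial ..
  have e11 : MvPolynomial.X (R := K) (0 : Fin 2) * MvPolynomial.X 1 =
      MvPolynomial.monomial (Finsupp.single 0 1 + Finsupp.single 1 1) 1 := by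
    simp [MvPolynomial.X, MvPolynomial.monomial_mul]
  rw [e20, e02, e11]
  simp only [MvPolynomial.coeff_add, MvPolynomial.coeff_C_mul, MvPolynomial.coeff_monomial]
  by_cases h : q.coeff d = 0
  · rw [h]
    split_ifs <;> simp_all
  · have hd := two_degree hq (MvPolynomial.mem_support_iff.mpr h)
    have : d = Finsupp.single 0 2 ∨ d = Finsupp.single 0 1 + Finsupp.single 1 1 ∨ d = Finsupp.single 1 2 := by
      rcases (by omega : d 0 = 2 ∧ d 1 = 0 ∨ d 0 = 1 ∧ d 1 = 1 ∨ d 0 = 0 ∧ d 1 = 2) with ⟨h0, h1⟩ | ⟨h0, h1⟩ | ⟨h0, h1⟩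
      · left; ext i; fin_cases i <;> simp [h0, h1]
      · right; left; ext i; fin_cases i <;> simp [h0, h1]
      · right; right; ext i; fin_cases i <;> simp [h0, h1]
    rcases this with rfl | rfl | rfl <;>
      simp [Finsupp.ext_iff, Fin.forall_fin_two]

theorem not_isUnit_linear (x y : K) :
    ¬ IsUnit (MvPolynomial.C x * MvPolynomial.X 0 + MvPolynomial.C y * MvPolynomial.X (1 : Fin 2)) := by
  intro h
  have := h.map (MvPolynomial.eval (fun _ => (0 : K)))
  simp at this

theorem roots_mem {L : Type u} [Field L] [Algebra K L] {m : ℕ} (hm : 0 < m) (hs : (X ^ m - 1 : K[X]).Splits)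
    (z : L) (hz : z ^ m = 1) : ∃ c, algebraMap K L c = z :=
  hs.mem_range_of_isRoot (monic_X_pow_sub_C 1 hm.ne').ne_zero (by simp [hz])

theorem exists_data (hq : q.IsHomogeneous 2) (hirr : Irreducible q)
    (hdisc : (q.coeff (Finsupp.single 0 1 + Finsupp.single 1 1)) ^ 2 -
      4 * q.coeff (Finsupp.single 0 2) * q.coeff (Finsupp.single 1 2) ≠ 0) :
    ∃ (L : Type u) (_ : Field L) (_ : Algebra K L), Nonempty (Data q L) := by
  set a := q.coeff (Finsupp.single 0 2) with hadef
  set b := q.coeff (Finsupp.single 0 1 + Finsupp.single 1 1) with hbdef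
  set c := q.coeff (Finsupp.single 1 2) with hcdef
  have hform := form_eq hq
  rw [← hadef, ← hbdef, ← hcdef] at hform
  have ha : a ≠ 0 := by
    intro ha
    have h : q = MvPolynomial.X 1 * (MvPolynomial.C b * MvPolynomial.X 0 + MvPolynomial.C c * MvPolynomial.X 1) := by
      rw [hform, ha, map_zero]; ring
    rcases hirr.isUnit_or_isUnit h with hu | hu
    · exact not_isUnit_linear (0 : K) 1 (by simpa using hu)
    · exact not_isUnit_linear b c hu
  let p : K[X] := X ^ 2 + C (b / a) * X + C (c / a)
  have hp : p.Monic := by simp only [p]; monicity!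
  have hdeg : p.natDegree = 2 := by simp only [p]; compute_degree!
  have hnoroot : ∀ r, ¬ p.IsRoot r := by
    intro r hr
    have hr' : a * r ^ 2 + b * r + c = 0 := by
      simp only [IsRoot, p, eval_add, eval_pow, eval_X, eval_mul, eval_C] at hr
      linear_combination (norm := (field_simp; ring)) a * hr
    have hc : c = -r * (b + a * r) := by linear_combination hr'
    have h : q = (MvPolynomial.C 1 * MvPolynomial.X 0 + MvPolynomial.C (-r) * MvPolynomial.X 1) *
        (MvPolynomial.C a * MvPolynomial.X 0 + MvPolynomial.C (b + a * r) * MvPolynomial.X 1) := by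
      rw [hform, hc]; simp only [map_neg, map_mul, map_add, map_one]; ring
    rcases hirr.isUnit_or_isUnit h with hu | hu
    · exact not_isUnit_linear _ _ hu
    · exact not_isUnit_linear _ _ hu
  haveI : Fact (Irreducible p) := ⟨(hp.irreducible_iff_roots_eq_zero_of_degree_le_three hdeg.ge (by omega)).mpr
    (Multiset.eq_zero_of_forall_notMem fun r hr => hnoroot r (mem_roots'.mp hr).2)⟩
  let L := AdjoinRoot p
  let α : L := AdjoinRoot.root p
  let β : L := -algebraMap K L (b / a) - α
  have hrel : α ^ 2 + algebraMap K L (b / a) * α + algebraMap K L (c / a) = 0 := by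
    have h := AdjoinRoot.mk_self (f := p)
    simp only [p, map_add, map_pow, map_mul, AdjoinRoot.mk_X, AdjoinRoot.mk_C] at h
    exact h
  have hβ : p.eval₂ (Algebra.ofId K L) β = 0 := by
    simp only [p, eval₂_add, eval₂_pow, eval₂_X, eval₂_mul, eval₂_C]
    show β ^ 2 + algebraMap K L (b / a) * β + algebraMap K L (c / a) = 0
    linear_combination hrel
  let σ₀ : L →ₐ[K] L := AdjoinRoot.liftAlgHom p (Algebra.ofId K L) β hβ
  have hσα : σ₀ α = β := AdjoinRoot.lift_root hβ
  have hσβ : σ₀ β = α := by
    show σ₀ (-algebraMap K L (b / a) - α) = α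
    rw [map_sub, map_neg, AlgHom.commutes, hσα]; simp only [β]; ring
  have hinv : σ₀.comp σ₀ = AlgHom.id K L := AdjoinRoot.algHom_ext (by
    show σ₀ (σ₀ α) = α
    rw [hσα, hσβ])
  refine ⟨L, inferInstance, inferInstance, ⟨{
    a := a, α := α, β := β, σ := AlgEquiv.ofAlgHom σ₀ σ₀ hinv hinv, σα := hσα, σβ := hσβ, ne := ?_, a0 := ha,
    span := ?_, hq := hq, split := ?_ }⟩⟩
  · intro h
    apply hdisc
    apply (algebraMap K L).injective
    have h2 : (2 * α + algebraMap K L (b / a)) = 0 := by
      simp only [β] at h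
      linear_combination h
    have ea : algebraMap K L a ≠ 0 := by simpa using ha
    rw [map_zero, map_sub, map_mul, map_mul, map_pow, map_ofNat]
    have hb : algebraMap K L b = algebraMap K L a * algebraMap K L (b / a) := by rw [← map_mul, mul_div_cancel₀ _ ha]
    have hc : algebraMap K L c = algebraMap K L a * algebraMap K L (c / a) := by rw [← map_mul, mul_div_cancel₀ _ ha]
    rw [hb, hc]
    linear_combination (algebraMap K L a) ^ 2 * (2 * α + algebraMap K L (b / a)) * h2 -
      4 * (algebraMap K L a) ^ 2 * hrel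
  · intro z
    obtain ⟨g, rfl⟩ := AdjoinRoot.mk_surjective z
    have hg : AdjoinRoot.mk p g = AdjoinRoot.mk p (g %ₘ p) := by
      conv_lhs => rw [← modByMonic_add_div g p, map_add, map_mul, AdjoinRoot.mk_self, zero_mul, add_zero]
    have hlt : (g %ₘ p).natDegree ≤ 1 := by
      have := natDegree_modByMonic_lt g hp (fun h1 => by simp [h1] at hdeg)
      omega
    refine ⟨(g %ₘ p).coeff 0, (g %ₘ p).coeff 1, ?_⟩
    rw [hg]
    conv_lhs => rw [eq_X_add_C_of_natDegree_le_one hlt]
    rw [map_add, map_mul, AdjoinRoot.mk_C, AdjoinRoot.mk_C, AdjoinRoot.mk_X]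
    simp [α, add_comm, AdjoinRoot.algebraMap_eq]
    rfl
  · rw [hform]
    simp only [map_add, map_mul, map_pow, MvPolynomial.map_C, MvPolynomial.map_X]
    have hb : algebraMap K L b = -(algebraMap K L a * (α + β)) := by
      simp only [β]; rw [show α + (-algebraMap K L (b / a) - α) = -algebraMap K L (b / a) by ring, mul_neg, neg_neg,
        ← map_mul, mul_div_cancel₀ _ ha]
    have hc : algebraMap K L c = algebraMap K L a * (α * β) := by
      rw [show c = a * (c / a) by rw [mul_div_cancel₀ _ ha], map_mul]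
      congr 1
      simp only [β]
      linear_combination hrel
    rw [hb, hc]
    simp only [map_neg, map_mul, map_add]
    ring

end Groth.Agent.ConicAut
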